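import Cfsg.Agent.H0.YJ2p.D
set_option maxRecDepth 100000
set_option Elab.async false
set_option linter.unusedSectionVars false
namespace H0.YJ2p
open H0 BN 
open H0.MJ2p (R)
universe u
variable {G : Type u} [Group G] [Finite G] (m0 : Model G) (h0 : m0.R = R) (hb : m0.pst [1, 68, 37, 0] = ⊥) (hc : Nat.card G = 604800)
include h0 hb hc
theorem base : m0.pst [1, 68, 37, 0] = ⊥ := hb
omit hb hc in
theorem ch_ok : m0.ChainOK ch [] := (m0.chain_cons [0, 1, 0, 1, 0, 1, 0, 1, 0, 1, 0, 1, 0, 1, 0, 1, 1, 0, 1, 0] (Model.via _ h0 (fun R => Model.fixP R [] [[0], [1]]) c6) (Model.via _ h0 (fun R => Model.growP R [[0], [1]] [0, 1, 0, 1, 0, 1, 0, 1, 0, 1, 0, 1, 0, 1, 0, 1, 1, 0, 1, 0] 0 100) c7) (m0.chain_cons [0, 1, 0, 0, 1, 0, 0, 1, 0, 0, 1, 0, 0, 0, 1] (Model.via _ h0 (fun R => Model.fixP R [0] [[3], [5]]) c4) (Model.via _ h0 (fun R => Model.growP R [[3], [5]] [0, 1, 0, 0, 1, 0, 0, 1, 0, 0, 1, 0, 0, 0, 1] 37 63) c5)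 (m0.chain_cons [0, 1, 0, 1, 0, 1, 0, 0, 0] (Model.via _ h0 (fun R => Model.fixP R [37, 0] [[6], [8]]) c2) (Model.via _ h0 (fun R => Model.growP R [[6], [8]] [0, 1, 0, 1, 0, 1, 0, 0, 0] 68 32) c3) (m0.chain_cons [0, 0] (Model.via _ h0 (fun R => Model.fixP R [68, 37, 0] [[10]]) c0) (Model.via _ h0 (fun R => Model.growP R [[10]] [0, 0] 1 3) c1) (m0.chain_nil _)))))
theorem E4 : m0.Enum (nat_lit 100) (nat_lit 7) [1, 68, 37, 0] L4 := m0.enum_base (base m0 h0 hb hc) (by decide +kernel)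
theorem I3 : m0.Inv (m0.pst [68, 37, 0]) 14 := ((m0.chain_pst (ch_ok m0 h0) (hc.trans (by decide +kernel)) 3).symm ▸ m0.inv_of_invB (Model.via _ h0 (fun R => Model.invB R (Model.cgens (ch.drop 3)) 14) c8) :)
theorem F3 : m0.Enum2 (nat_lit 100) (nat_lit 7) [68, 37, 0] T3 L4 := m0.enum_step (I3 m0 h0 hb hc) (Model.via _ h0 (fun R => levB R (nat_lit 100) (nat_lit 7) [68, 37, 0] 1 14 0xc78b0e0bf7aedcb76acd8af5aad4a74a8d09f3a6cc972a4c88f1a2c4870a0c07ef9ebc76e9cb86ed9ab466c98b05eb96ac56a94a84e992a446890a03e78e9c3668c982e58a9426488901e3868c16284880e182840608080 [([10], 0xc783161bf72f5db76acd7ad629d5a94a7d1a13a5cd992644a8b1e34485061be80fddbd78e1d396cd5bb364d17b160b562e52ad526509d2a3449101f4270f1d326cd172c60a132a409111a3c70b14304071214206020c100)] p3 T3) c9) (E4 m0 h0 hb hc)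
theorem E3 : m0.Enum (nat_lit 100) (nat_lit 7) [68, 37, 0] L3 := (F3 m0 h0 hb hc).enum (eq_of_beq c10)
theorem I2 : m0.Inv (m0.pst [37, 0]) 1267650599933081496317350379520 := ((m0.chain_pst (ch_ok m0 h0) (hc.trans (by decide +kernel)) 2).symm ▸ m0.inv_of_invB (Model.via _ h0 (fun R => Model.invB R (Model.cgens (ch.drop 2)) 1267650599933081496317350379520) c11) :)
theorem F2 : m0.Enum2 (nat_lit 100) (nat_lit 7) [37, 0] T2 L3 := m0.enum_step (I2 m0 h0 hb hc) (Model.via _ h0 (fun R => levB R (nat_lit 100) (nat_lit 7) [37, 0] 68 1267650599933081496317350379520 0xc78b0e0bf7aedcb76acd8af5aad4a74a8d09f3a6cc972a4c88f1a2c4870a0c07ef9ebc76e9cb86ed9ab466c98b05eb96ac56a94a84e992a446890a03e78e9c3668c982e58a9426488901e3868c16284880e182840608080 [([6], 0x95162488f1a4da994e8cda14a74b9f7705fb98b0dec752b59af6ead879098b558c19ad76fd7436ee60b47cda03d74c9c2f4ca95a94ea129d308cb191c8479e248901a2270d954850b9f263480202101850c2c40a1230380),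 ([8], 0x8b22d47932a3449f5e6d0993a9519782e63c57aee1bf5a9dbab66c546acdfbb70fa1ba6cc1cb478b19415ef58b75d096c04ead4aa5099295223881f4865194303cd212c4d01c1a7491b3c88b8304180840a2838c102c480)] p2 T2) c12) (E3 m0 h0 hb hc)
theorem E2 : m0.Enum (nat_lit 100) (nat_lit 7) [37, 0] L2 := (F2 m0 h0 hb hc).enum (eq_of_beq c13)
theorem I1 : m0.Inv (m0.pst [0]) 1267650600228229401359264251904 := ((m0.chain_pst (ch_ok m0 h0) (hc.trans (by decide +kernel)) 1).symm ▸ m0.inv_of_invB (Model.via _ h0 (fun R => Model.invB R (Model.cgens (ch.drop 1)) 1267650600228229401359264251904) c14) :)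
theorem F1 : m0.Enum2 (nat_lit 100) (nat_lit 7) [0] T1 L2 := m0.enum_step (I1 m0 h0 hb hc) (Model.via _ h0 (fun R => levB R (nat_lit 100) (nat_lit 7) [0] 37 1267650600228229401359264251904 0xc78b0e0bf7aedcb76acd8af5aad4a74a8d09f3a6cc972a4c88f1a2c4870a0c07ef9ebc76e9cb86ed9ab466c98b05eb96ac56a94a84e992a446890a03e78e9c3668c982e58a9426488901e3868c16284880e182840608080 [([3], 0x60b174a7e961b5538674fba9e5d85152b3ca30a9b1b2d265ec6fb1366499eab8b7e05ac0e1ddcaabe22d9126bb3756d5469ae6841a4de3a10e2869c3c2119130144861640b0c267470f0664d2408541013648a1f4480b80), ([5], 0x9f65c2f910aec1b6c314d5cd1fb38ce9b49c6dec4096ee85f594e2bc877ae4caaadac495493e19d45ed6a8c945ac15d5477cb54b17295324462108f2644a84365cc983458e833e34f10403090e0a044a20e1859c2808500)] p1 T1) c15) (E2 m0 h0 hb hc)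
theorem reps : m0.Reps (nat_lit 100) (nat_lit 7) (X.map (·.1.2)) :=
  m0.reps_of (m0.lt_of_inv ((m0.chain_top (ch_ok m0 h0) (hc.trans (by decide +kernel))) ▸ m0.inv_of_invB (Model.via _ h0 (fun R => Model.invB R (Model.cgens ch) (2 ^ 100 - 1)) c17) :) (by decide)) [[3], [5]] (Model.via _ h0 (fun R => Model.repB R (nat_lit 100) (nat_lit 7) 100 [[3], [5]] X) c16)
omit h0 hb hc in
theorem sl : Model.SpecLe (nat_lit 100) (nat_lit 7) (nat_lit 15) (nat_lit 38398) [1, 68, 37, 0] (X.map (·.1.2)) U0 L2 := (List.take_append_drop 13 U0 ▸ (Model.specLe_of c22).app (List.take_append_drop 13 U1 ▸ (Model.specLe_of c21).app (List.take_append_drop 13 U2 ▸ (Model.specLe_of c20).app (List.take_append_drop 13 U3 ▸ (Model.specLe_of c19).app (Model.specLe_of c18) :) :) :) :)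
theorem spec : Set.range (orderOf : G → ℕ) = {d | d ∈ [1, 2, 3, 4, 5, 6, 7, 8, 10, 12, 15]} :=
  m0.spec_eq (base m0 h0 hb hc) (m0.spec_le (base m0 h0 hb hc) (by decide) (reps m0 h0 hb hc) (F1 m0 h0 hb hc) sl) (Model.via _ h0 (fun R => H6.allL (ordB R [1, 68, 37, 0]) E) c23) (K := 16) (by decide +kernel)
end H0.YJ2p
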